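import Cfsg.Agent.CosetCert.Fi22Index14080.Defs

/-! Generated: kernel checks. -/

set_option Elab.async false

namespace Cfsg.Agent.CosetCert.Fi22Index14080

theorem log_okAt25000 : allFrom data.checkLog 25000 2500 = true := by decide +kernel

theorem log_okAt27500 : allFrom data.checkLog 27500 2500 = true := by decide +kernel

theorem log_okAt30000 : allFrom data.checkLog 30000 2500 = true := by decide +kernel

theorem log_okAt32500 : allFrom data.checkLog 32500 2500 = true := by decide +kernel

theorem log_okAt35000 : allFrom data.checkLog 35000 2500 = true := by decide +kernel

theorem log_okAt37500 : allFrom data.checkLog 37500 2500 = true := by decide +kernel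

theorem log_okAt40000 : allFrom data.checkLog 40000 2500 = true := by decide +kernel

theorem log_okAt42500 : allFrom data.checkLog 42500 2500 = true := by decide +kernel

theorem log_okAt45000 : allFrom data.checkLog 45000 2500 = true := by decide +kernel

theorem log_okAt47500 : allFrom data.checkLog 47500 2500 = true := by decide +kernel

end Cfsg.Agent.CosetCert.Fi22Index14080
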