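import Cfsg.Agent.CosetCert.Fi22Index14080.Defs

/-! Generated: kernel checks. -/

set_option Elab.async false

namespace Cfsg.Agent.CosetCert.Fi22Index14080

theorem log_okAt50000 : allFrom data.checkLog 50000 2500 = true := by decide +kernel

theorem log_okAt52500 : allFrom data.checkLog 52500 2500 = true := by decide +kernel

theorem log_okAt55000 : allFrom data.checkLog 55000 2500 = true := by decide +kernel

theorem log_okAt57500 : allFrom data.checkLog 57500 2500 = true := by decide +kernel

theorem log_okAt60000 : allFrom data.checkLog 60000 2500 = true := by decide +kernel

theorem log_okAt62500 : allFrom data.checkLog 62500 2500 = true := by decide +kernel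

theorem log_okAt65000 : allFrom data.checkLog 65000 2500 = true := by decide +kernel

theorem log_okAt67500 : allFrom data.checkLog 67500 2500 = true := by decide +kernel

theorem log_okAt70000 : allFrom data.checkLog 70000 2500 = true := by decide +kernel

theorem log_okAt72500 : allFrom data.checkLog 72500 2500 = true := by decide +kernel

end Cfsg.Agent.CosetCert.Fi22Index14080
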