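import Cfsg.Agent.CosetCert.Fi22Index14080.Defs

/-! Generated: kernel checks. -/

set_option Elab.async false

namespace Cfsg.Agent.CosetCert.Fi22Index14080

theorem rels_okAt10000 : allFrom data.checkRels 10000 500 = true := by decide +kernel

theorem rels_okAt10500 : allFrom data.checkRels 10500 500 = true := by decide +kernel

theorem rels_okAt11000 : allFrom data.checkRels 11000 500 = true := by decide +kernel

theorem rels_okAt11500 : allFrom data.checkRels 11500 500 = true := by decide +kernel

theorem rels_okAt12000 : allFrom data.checkRels 12000 500 = true := by decide +kernel

theorem rels_okAt12500 : allFrom data.checkRels 12500 500 = true := by decide +kernel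

theorem rels_okAt13000 : allFrom data.checkRels 13000 500 = true := by decide +kernel

theorem rels_okAt13500 : allFrom data.checkRels 13500 500 = true := by decide +kernel

theorem rels_okAt14000 : allFrom data.checkRels 14000 80 = true := by decide +kernel

end Cfsg.Agent.CosetCert.Fi22Index14080
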