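import Cfsg.Agent.CosetCert.Fi22Index14080.Defs

/-! Generated: kernel checks. -/

set_option Elab.async false

namespace Cfsg.Agent.CosetCert.Fi22Index14080

theorem coset_okAt12000 : allFrom data.checkCoset 12000 750 = true := by decide +kernel

theorem coset_okAt12750 : allFrom data.checkCoset 12750 750 = true := by decide +kernel

theorem coset_okAt13500 : allFrom data.checkCoset 13500 580 = true := by decide +kernel

end Cfsg.Agent.CosetCert.Fi22Index14080
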