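import Cfsg.Agent.CosetCert.Fi22Index14080.CheckTable0
import Cfsg.Agent.CosetCert.Fi22Index14080.CheckTable1
import Cfsg.Agent.CosetCert.Fi22Index14080.CheckTable2

/-! Generated: kernel checks combined. -/

namespace Cfsg.Agent.CosetCert.Fi22Index14080

theorem coset_ok : ∀ i, i < 14080 → data.checkCoset i = true := by
  have h0 : ∀ i, i < 0 → data.checkCoset i = true := forall_lt_zero
  have h1 := forall_lt_step (b := 750) h0 coset_okAt0 rfl
  have h2 := forall_lt_step (b := 1500) h1 coset_okAt750 rfl
  have h3 := forall_lt_step (b := 2250) h2 coset_okAt1500 rfl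
  have h4 := forall_lt_step (b := 3000) h3 coset_okAt2250 rfl
  have h5 := forall_lt_step (b := 3750) h4 coset_okAt3000 rfl
  have h6 := forall_lt_step (b := 4500) h5 coset_okAt3750 rfl
  have h7 := forall_lt_step (b := 5250) h6 coset_okAt4500 rfl
  have h8 := forall_lt_step (b := 6000) h7 coset_okAt5250 rfl
  have h9 := forall_lt_step (b := 6750) h8 coset_okAt6000 rfl
  have h10 := forall_lt_step (b := 7500) h9 coset_okAt6750 rfl
  have h11 := forall_lt_step (b := 8250) h10 coset_okAt7500 rfl
  have h12 := forall_lt_step (b := 9000) h11 coset_okAt8250 rfl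
  have h13 := forall_lt_step (b := 9750) h12 coset_okAt9000 rfl
  have h14 := forall_lt_step (b := 10500) h13 coset_okAt9750 rfl
  have h15 := forall_lt_step (b := 11250) h14 coset_okAt10500 rfl
  have h16 := forall_lt_step (b := 12000) h15 coset_okAt11250 rfl
  have h17 := forall_lt_step (b := 12750) h16 coset_okAt12000 rfl
  have h18 := forall_lt_step (b := 13500) h17 coset_okAt12750 rfl
  have h19 := forall_lt_step (b := 14080) h18 coset_okAt13500 rfl
  exact h19

end Cfsg.Agent.CosetCert.Fi22Index14080
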