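import Cfsg.Agent.CosetCert.Fi22Index14080.CheckLog
import Cfsg.Agent.CosetCert.Fi22Index14080.CheckTable
import Cfsg.Agent.CosetCert.Fi22Index14080.CheckRels

/-! Generated: the index and the suborbits. -/

namespace Cfsg.Agent.CosetCert.Fi22Index14080

theorem valid : data.Valid where
  n_pos := by decide +kernel
  root := by decide +kernel
  log := log_ok
  coset := coset_ok
  rels := rels_ok
  powers_eq := by decide +kernel
  pw := by decide +kernel
  letters := by decide +kernel
  K_small := by decide +kernel
  nR_le := by decide +kernel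
  subs := by decide +kernel
  iv_iv := fun x hx => ⟨rfl, hx⟩
  iv_big := fun _ _ => rfl

theorem spells : Data.Spells data (Cfsg.Spor.coxRelators Cfsg.Spor.Fi22.edges ∪ {r | r ∈ Cfsg.Spor.Fi22.extra})
    subGens enc dec (coxWords genList Cfsg.Spor.Fi22.edges Cfsg.Spor.Fi22.extra) := by
  apply spells_cox data genList
  · intro z; cases z <;> decide
  · intro z; cases z <;> exact ⟨by decide +kernel, by decide +kernel, rfl⟩
  · show ∀ x, x < 9 → _
    intro x hx
    interval_cases x <;> exact ⟨by decide +kernel, by decide +kernel, rfl⟩
  · intro z; cases z <;> decide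
  · decide +kernel
  · decide +kernel

theorem index_val : (Data.sub (Cfsg.Spor.coxRelators Cfsg.Spor.Fi22.edges ∪ {r | r ∈ Cfsg.Spor.Fi22.extra})
    subGens).index = 14080 :=
  Data.index_eq valid spells

end Cfsg.Agent.CosetCert.Fi22Index14080
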